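import Mathlib
import Cfsg.Agent.OddHalf.D4.Spor.Row
import Cfsg.Agent.OddHalf.D4.Spor.NoSE
import Cfsg.Agent.OddHalf.D9.RankTwo.Core
import Cfsg.Agent.OddHalf.D4.Sz.Kill1170
import Cfsg.Agent.StdSz.EndClosed
import Cfsg.Agent.StrongEmb.Split

/-!
# ODD half, D4: the listed statements which are used (helper228, integrator)
-/

set_option autoImplicit false

namespace Cfsg.Agent.OddHalf.D4.Final

open Subgroup Cfsg Cfsg.Agent.OddHalf.D4

universe u

/-- the listed statements used by D4: S1173, S0205, the main theorem behind S1179, S1170, simple groups of order prime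
to 3, S1169, Bender's theorem on strongly embedded subgroups -/
structure Given : Prop where
  h1173 : Start.P1173.{u}
  hFT : Spor.FTT.{u}
  hTI : D9.RankTwo.Core.MainTI.{u}
  h1170 : Cfsg.Agent.StdSz.Out.S1170Stmt.{u}
  h3p : Sz.Kill1170.ThreeStmt.{u}
  gold : Cfsg.Agent.StdSz.EndClosed.Gold.{u}
  hBen : ∀ (Y : Type u) [Group Y] [Finite Y], Cfsg.Agent.StrongEmb.Split.BenderHolds Y

/-- one central involution excludes strongly embedded subgroups -/
theorem pse : Spor.PSE.{u} := fun _ _ _ _ hna z1 => Spor.noSE hna z1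

end Cfsg.Agent.OddHalf.D4.Final
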