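import Mathlib
import Cfsg.Agent.OddHalf.D4.Final.Given
import Cfsg.Agent.S0205
import Cfsg.Agent.S1169
import Cfsg.Agent.S1170
import Cfsg.Agent.S1173
import Cfsg.Agent.S1175
import Cfsg.Agent.ThreePrime.Main
import Cfsg.Agent.WeakTI.Final
import Cfsg.Agent.StrongEmb.Main

/-!
# ODD half, D4: the listed statements which are used, proved (helper228, integrator)
-/

set_option autoImplicit false

namespace Cfsg.Agent.OddHalf.D4.Final

open Subgroup Cfsg Cfsg.Agent.OddHalf.D4

universe u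

/-- **`Given`** -/
theorem given : Given.{u} where
  h1173 G _ _ hO S T hT := Cfsg.Agent.S1173.result (G := G) hO S T hT
  hFT H _ _ hH := Cfsg.Agent.S0205.result (G := H) hH
  hTI G _ _ A h := Cfsg.Agent.WeakTI.Final.main (fun X _ _ hs _ M hM z hz hzM h1 h2 h3 =>
      have : IsSimpleGroup X := hs
      Cfsg.Agent.S1175.result M hM z hz hzM h1 h2 h3) G A h
  h1170 G _ _ _ S A h1 h2 h3 := Cfsg.Agent.S1170.result (G := G) S A h1 h2 h3
  h3p G _ _ _ h1 h2 := Cfsg.Agent.ThreePrime.Main.isoSuzuki (G := G) h1 h2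
  gold := fun S A h1 h2 h3 => Cfsg.Agent.S1169.result S A h1 h2 h3
  hBen Y _ _ := Cfsg.Agent.StrongEmb.Main.bender Y

end Cfsg.Agent.OddHalf.D4.Final
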