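import Mathlib
import Cfsg.Agent.OddHalf.D4.Cut
import Cfsg.Agent.OddHalf.D4.EvenCyc
import Cfsg.Agent.OddHalf.D4.EvenSzRow
import Cfsg.Agent.OddHalf.D4.Cov.L34
import Cfsg.Agent.OddHalf.D9.TwoM12.EvenRow
import Cfsg.Agent.OddHalf.D9.J2.PFacts
import Cfsg.Agent.OddHalf.D4.Spor.TwoSuz
import Cfsg.Agent.OddHalf.D4.Spor.TwoCo1
import Cfsg.Agent.OddHalf.D4.M22.Main
import Cfsg.Agent.OddHalf.D4.EvenF42
import Cfsg.Agent.OddHalf.D4.EvenEEight
import Cfsg.Agent.OddHalf.D9.EEight.RowFinal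
import Cfsg.Agent.OddHalf.D9.G24.Final
import Cfsg.Agent.OddHalf.D9.RankTwo.RowsD4
import Cfsg.Agent.OddHalf.D9.RankTwo.RowsU
import Cfsg.Agent.OddHalf.D9.RankTwo.RowsFull
import Cfsg.Agent.OddHalf.D9.GamE6Inst
import Cfsg.Agent.OddHalf.D9.GamO8
import Cfsg.Agent.KFacts.Mult.OEightInner
import Cfsg.Agent.KFacts.Mult.TwESixInner
import Cfsg.Agent.KFacts.RuDbl.Pairs

/-!
# ODD half, D4: the rows with `Z(K) ≠ 1` (helper228, integrator)

`rowsCov`: the structure `D4.Cut.RowsCov` from S0205 (`KillAnyRow.FT`) and the reduction of the theorem on TI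
subgroups (`Core.MainTI`).
-/

set_option autoImplicit false

namespace Cfsg.Agent.OddHalf.D4.Final.Cov

open Subgroup Cfsg Cfsg.Agent.OddHalf.Iface Cfsg.Agent.OddHalf.D4 Cfsg.Agent.OddHalf.D9.Cut
  Cfsg.Agent.OddHalf.D4.EvenCyc

universe u

/-- a row from (P1) and (P2), cyclic centre -/
theorem row_cyc {P : (K : Type u) → [Group K] → Prop}
    (h : ∀ (K : Type u) [Group K] [Finite K], commutator K = ⊤ → P K →
      IsCyclic ↥(center K) ∧ center K ≠ ⊥ ∧ PairFree K ∧ SqDiff K) : Cut.Row0.{u} P := by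
  intro G _ C K S hr hP
  have := C.fin
  obtain ⟨h1, h2, h3, h4⟩ := h ↥K S.std.1.1.commutator_eq_top hP
  exact hr (EvenCyc.row C S h1 h2 h3 h4)

theorem cyc_of_two {K : Type u} [Group K] (h : Nat.card ↥(center K) = 2) :
    IsCyclic ↥(center K) ∧ center K ≠ ⊥ := by
  have : Fact (Nat.Prime 2) := ⟨Nat.prime_two⟩
  refine ⟨isCyclic_of_prime_card h, ?_⟩
  intro h1
  rw [h1, card_bot] at h
  omega

/-- a row from (P1) and (P2), centre of order 2 -/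
theorem row_two {P : (X : Type u) → [Group X] → Prop}
    (h : ∀ (K : Type u) [Group K] [Finite K], commutator K = ⊤ → Nat.card ↥(center K) = 2 → P (K ⧸ center K) →
      PairFree K ∧ SqDiff K) : Cut.Row0.{u} (fun K _ => Two P K) :=
  row_cyc fun K _ _ hK hP => ⟨(cyc_of_two hP.1).1, (cyc_of_two hP.1).2, h K hK hP.1 hP.2⟩

/-- `Ω₈⁺(2)` has no tied pair of involutions -/
theorem not_tied_o82 {X : Type u} [Group X] (h : XO82 X) : ¬ D9.Gamma.Tied X := by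
  obtain ⟨F, i1, i2, hF, ⟨e⟩⟩ := h
  exact fun hX => D9.GamO8.not_tied hF (hX.of_equiv e)

/-- `²E₆(2)` has no tied pair of involutions -/
theorem not_tied_2e62 {X : Type u} [Group X] (h : X2E62 X) : ¬ D9.Gamma.Tied X := by
  obtain ⟨F, i1, i2, hF, ⟨e⟩⟩ := h
  exact fun hX => D9.GamE6Inst.not_tied hF (hX.of_equiv e)

/-- **`2².Ω₈⁺(2)`** -/
theorem v_o82 (T : D9.RankTwo.Core.MainTI.{u}) : Cut.Row0.{u} (fun K _ => Cut.Vier (fun X _ => XO82 X) K) :=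
  (D9.RankTwo.RowsD4.v_row T D9.RankTwo.RowsFull.rows (fun _ _ h => not_tied_o82 h)
    (fun _ _ _ hp h4 hX => KFacts.Mult.OEightInner.center_inner hp h4 hX)).row0

/-- **`2².²E₆(2)`** -/
theorem v_2e62 (T : D9.RankTwo.Core.MainTI.{u}) : Cut.Row0.{u} (fun K _ => Cut.Vier (fun X _ => X2E62 X) K) :=
  (D9.RankTwo.RowsD4.v_row T D9.RankTwo.RowsFull.rows (fun _ _ h => not_tied_2e62 h)
    (fun _ _ _ hp h4 hX => KFacts.Mult.TwESixInner.center_inner hp h4 hX)).row0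

/-- **The rows with `Z(K) ≠ 1`.** -/
theorem rowsCov (ft : D9.KillAnyRow.FT.{u}) (T : D9.RankTwo.Core.MainTI.{u}) : Cut.RowsCov.{u} where
  l34 := Cov.L34.row
  o82 := row_two fun K _ _ hK h2 hX => by
    obtain ⟨e⟩ := D9.EEight.RowFinal.ident K inferInstance hK h2 hX
    exact ⟨EvenEEight.pairFree e D9.EEight.RowFinal.autConj, EvenEEight.sqDiff e D9.EEight.RowFinal.autConj⟩
  g24 := fun G _ C K S _ h => D9.G24.Final.g24_any ft G C K S h
  f42 := row_two fun K _ _ hK h2 hX => EvenF42.main hK hX (cyc_of_two h2).2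
  sz8 := EvenSzRow.sz8
  m12 := D9.TwoM12.d4_row
  j2 := row_two fun K _ _ hK h2 hX => D9.J2.PFacts.main hK h2 hX
  suz := Spor.TwoSuz.suz
  ru := row_two fun _ _ _ hK h2 hX => by
    obtain ⟨e⟩ := hX
    exact KFacts.RuDbl.Pairs.main hK h2 e
  co1 := row_two fun K _ _ hK h2 hX => ⟨Spor.TwoCo1.pairFree hK h2 hX, Spor.TwoCo1.sqDiff hK h2 hX⟩
  m22 := row_two fun K _ _ hK _ hX => ⟨M22.Main.pairFree hK hX, M22.Main.sqDiff hK hX⟩
  m22four := row_cyc fun K _ _ hK hP => by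
    obtain ⟨h4, hc, hX⟩ := hP
    refine ⟨hc, ?_, M22.Main.pairFree hK hX, M22.Main.sqDiff hK hX⟩
    intro h
    rw [h, card_bot] at h4
    omega
  v_u62 := (D9.RankTwo.RowsU.v_u62 T D9.RankTwo.RowsFull.rows).row0
  v_o82 := v_o82 T
  v_2e62 := v_2e62 T
  v_sz8 := (D9.RankTwo.RowsD4.v_sz8 T D9.RankTwo.RowsFull.rows).row0
  non_l34 := D9.RankTwo.RowsD4.non_l34 T D9.RankTwo.RowsFull.rows

end Cfsg.Agent.OddHalf.D4.Final.Cov
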