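import Mathlib
import Cfsg.Agent.OddHalf.D4.MultOf
import Cfsg.Agent.OddHalf.D4.NC.Inst
import Cfsg.Agent.OddHalf.D9.RankTwo.RowsU
import Cfsg.Agent.OddHalf.D9.MultAll
import Cfsg.Agent.KFacts.Mult.SuzND
import Cfsg.Agent.KFacts.RuDbl.One

/-!
# ODD half, D4: the multiplier facts (helper228, integrator)
-/

set_option autoImplicit false

namespace Cfsg.Agent.OddHalf.D4.Final.Mult

open Subgroup Cfsg Cfsg.Agent.OddHalf.D4 Cfsg.Agent.OddHalf.D4.MultOf

universe u

/-- the rows of `Ru` (theorems: `opn`) -/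
structure Open : Prop where
  /-- `Mult` of D9 -/
  two : D9.MultAll.Two.Missing.{u}
  ru : NonCyc.{u} (fun X _ => Spor.IsoRu X)

/-- the double cover of `Ru` is unique -/
theorem oneCover_ru (X : Type u) [Group X] (h : Spor.IsoRu X) : Cfsg.Agent.KFacts.MulBound.OneCover X := by
  obtain ⟨e⟩ := h
  exact Cfsg.Agent.KFacts.MulBaer.OneCover.congr Cfsg.Agent.KFacts.RuDbl.One.oneCover_spor e.symm

/-- there is no open row -/
theorem opn : Open.{u} where
  two := ⟨D9.MultOf.Bd.of_oneCover oneCover_ru⟩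
  ru := NonCyc.of_oneCover oneCover_ru

/-- **`Mult`** of D9. -/
theorem mult (o : Open.{u}) : D9.Cut.Mult.{u} := D9.MultAll.mult_of o.two

/-- **`MultD4`**. -/
theorem multD4 (o : Open.{u}) : Cut.MultD4.{u} :=
  multD4_of D9.MultAll.Spor.sporND D9.MultAll.Lie.lieND (NC.Inst.ncRows o.ru)
    (NC.Inst.vRows D9.RankTwo.RowsU.u62All
      (fun _ _ _ _ hm hF => KFacts.Mult.SuzND.noDouble hm hF))

end Cfsg.Agent.OddHalf.D4.Final.Mult
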