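import Mathlib
import Cfsg.Agent.OddHalf.D4.Start
import Cfsg.Agent.OddHalf.D4.RowL2o
import Cfsg.Agent.OddHalf.D4.LThreeTwo
import Cfsg.Agent.OddHalf.D4.Small.KL33
import Cfsg.Agent.OddHalf.D4.Small.KU33
import Cfsg.Agent.OddHalf.D4.Small.KPSp43
import Cfsg.Agent.OddHalf.D4.Small.RowG23
import Cfsg.Agent.OddHalf.D4.Small.UFour
import Cfsg.Agent.OddHalf.D4.Small.LFourRow
import Cfsg.Agent.OddHalf.NI.RowsD4
import Cfsg.Agent.OddHalf.NI3.Final

/-!
# ODD half, D4: the rows of Lie type in odd characteristic with `Z(K) = 1` (helper228, integrator)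

Open: `NoBig` (node NI, `q ≥ 5`), Ree, node NI over `F_3` (`NoThree`, `F13`), the sheet of `L₄(3)`, the rows `Ω₇(3)`,
`PΩ₈^±(3)`.
-/

set_option autoImplicit false

namespace Cfsg.Agent.OddHalf.D4.Final.Odd

open Subgroup Cfsg Cfsg.Agent.OddHalf.Iface Cfsg.Agent.OddHalf.LieOddFam Cfsg.Agent.OddHalf.D4
  Cfsg.Agent.OddHalf.D4.Cut

universe u

/-- the open rows -/
structure Open : Prop where
  /-- node NI over `F_q`, `q ≥ 5` -/
  big : NI.NoBig.{u}
  ree : Row1.{u} (fun K _ => Reeo K)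
  /-- node NI over `F_3` -/
  noThree : NI3.NoThree.{u}
  f13 : NI3.F13.{u}
  /-- the sheet of `L₄(3)` -/
  l4 : ∀ (K : Type u) [Group K] (F : Type) [Field F] [Fintype F], Fintype.card F = 3 →
    (K ≃* Matrix.ProjectiveSpecialLinearGroup (Fin 4) F) → Small.LFour.HasSheetL K
  o7 : Row1.{u} (fun K _ => ∃ (F : Type) (_ : Field F) (_ : Fintype F), Fintype.card F = 3 ∧
    Nonempty (K ≃* POmega F (quadFormOdd 3 F)))
  o8p : Row1.{u} (fun K _ => ∃ (F : Type) (_ : Field F) (_ : Fintype F), Fintype.card F = 3 ∧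
    Nonempty (K ≃* POmega F (quadFormPlus 4 F)))
  o8m : Row1.{u} (fun K _ => ∃ (F : Type) (_ : Field F) (_ : Fintype F) (b c : F), Fintype.card F = 3 ∧
    (∀ z₁ z₂ : F, z₁ ^ 2 + b * z₁ * z₂ + c * z₂ ^ 2 = 0 → z₁ = 0 ∧ z₂ = 0) ∧
    Nonempty (K ≃* POmega F (quadFormMinus 3 F b c)))

/-- a row from the facts `Small.Row` -/
theorem row_of_small (h1173 : Start.P1173.{u}) {P : (K : Type u) → [Group K] → Prop}
    (h : ∀ (K : Type u) [Group K], P K → Small.Row K) : Row1.{u} P := by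
  intro G _ C K S hr hz hP
  have := C.fin
  have := C.simple
  obtain ⟨x, y, hx, hy, hx2, hy2, hxy, hne⟩ := EvenPair.exists_two_of_not_pRankLE hr
  exact Small.false_of_row (h1173 G (Start.oddCore_eq_bot hx2)) S.std (Start.isSimple_of_center S.simple hz) hz hr
    (h ↥K hP)

/-- a row from `HasSheetL` -/
theorem row_of_sheetL (h1173 : Start.P1173.{u}) {P : (K : Type u) → [Group K] → Prop}
    (h : ∀ (K : Type u) [Group K], P K → Small.LFour.HasSheetL K) : Row1.{u} P := by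
  intro G _ C K S hr hz hP
  have := C.fin
  have := C.simple
  obtain ⟨x, y, hx, hy, hx2, hy2, hxy, hne⟩ := EvenPair.exists_two_of_not_pRankLE hr
  exact Small.LFour.false_of_rowL (h1173 G (Start.oddCore_eq_bot hx2)) S.std (Start.isSimple_of_center S.simple hz)
    hz hr (h ↥K hP)

/-- the groups of rank at least 2 over the field with 3 elements -/
theorem three (h1173 : Start.P1173.{u}) (o : Open.{u}) : Row1.{u} (fun K _ => Rk K 3) := by
  intro G _ C K S hr hz hP
  rcases NI3.Final.small_of_rk o.noThree o.f13 C S.toStd0 hz hP with h | h | h | h | h | h | h | h | h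
  · exact row_of_small h1173 (P := fun K _ => ∃ (F : Type) (_ : Field F) (_ : Fintype F), Fintype.card F = 3 ∧
      Nonempty (K ≃* Matrix.ProjectiveSpecialLinearGroup (Fin 3) F))
      (fun K _ ⟨F, _, _, hF, ⟨e⟩⟩ => Small.row_l33 hF e) G C K S hr hz h
  · exact row_of_small h1173 (P := fun K _ => ∃ (F : Type) (_ : Field F) (_ : Fintype F), Fintype.card F = 9 ∧
      Nonempty (K ≃* PSU 3 F 3))
      (fun K _ ⟨F, _, _, hF, ⟨e⟩⟩ => Small.row_u33 hF e) G C K S hr hz h
  · exact row_of_sheetL h1173 (P := fun K _ => ∃ (F : Type) (_ : Field F) (_ : Fintype F), Fintype.card F = 3 ∧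
      Nonempty (K ≃* Matrix.ProjectiveSpecialLinearGroup (Fin 4) F))
      (fun K _ ⟨F, _, _, hF, ⟨e⟩⟩ => o.l4 K F hF e) G C K S hr hz h
  · exact row_of_small h1173 (P := fun K _ => ∃ (F : Type) (_ : Field F) (_ : Fintype F), Fintype.card F = 9 ∧
      Nonempty (K ≃* PSU 4 F 3))
      (fun K _ ⟨F, _, _, hF, ⟨e⟩⟩ => Small.UFour.row hF e) G C K S hr hz h
  · exact row_of_small h1173 (P := fun K _ => ∃ (F : Type) (_ : Field F) (_ : Fintype F), Fintype.card F = 3 ∧
      Nonempty (K ≃* PSp 2 F))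
      (fun K _ ⟨F, _, _, hF, ⟨e⟩⟩ => Small.row_psp43 hF e) G C K S hr hz h
  · exact row_of_small h1173 (P := fun K _ => FG2 K 3)
      (fun K _ ⟨F, _, _, hF, ⟨e⟩⟩ => Small.row_g23 F hF e) G C K S hr hz h
  · exact o.o7 G C K S hr hz h
  · exact o.o8p G C K S hr hz h
  · exact o.o8m G C K S hr hz h

/-- **The rows of Lie type in odd characteristic.** -/
theorem rowsOdd (h1173 : Start.P1173.{u}) (o : Open.{u}) : Cut.RowsOdd.{u} :=
  NI.RowsD4.rowsOdd_of o.big (LThreeTwo.row h1173) (RowL2o.row h1173) o.ree (three h1173 o)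

end Cfsg.Agent.OddHalf.D4.Final.Odd
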