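import Mathlib
import Cfsg.Agent.OddHalf.D4.Final.Given
import Cfsg.Agent.OddHalf.D4.Spor.Fi22
import Cfsg.Agent.OddHalf.D4.Spor.Fi23
import Cfsg.Agent.OddHalf.D4.Spor.HN
import Cfsg.Agent.OddHalf.D4.Spor.HS
import Cfsg.Agent.OddHalf.D4.Spor.J3
import Cfsg.Agent.OddHalf.D4.Spor.JTwo
import Cfsg.Agent.OddHalf.D4.Spor.M11
import Cfsg.Agent.OddHalf.D4.Spor.M2223
import Cfsg.Agent.OddHalf.D4.Spor.MTwentyFour
import Cfsg.Agent.OddHalf.D4.Spor.ON
import Cfsg.Agent.OddHalf.D4.Spor.Suz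
import Cfsg.Agent.OddHalf.D4.Spor.ThSheet
import Cfsg.Agent.OddHalf.D4.Spor.J1
import Cfsg.Agent.OddHalf.D4.Spor.He
import Cfsg.Agent.KFacts.J4.DFour
import Cfsg.Agent.OddHalf.D4.Spor.Ru
import Cfsg.Agent.OddHalf.D4.Spor.Fi24
import Cfsg.Agent.OddHalf.D4.Spor.MonsterFinal
import Cfsg.Agent.OddHalf.D4.Spor.Baby.Main
import Cfsg.Agent.OddHalf.D4.Spor.LatFour
import Cfsg.Agent.KFacts.Baby.RowB
import Cfsg.Agent.KFacts.CoTwo.InnerB
import Cfsg.Agent.KFacts.Co3D4.Sheet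
import Cfsg.Agent.KFacts.Co2D4.Sheet
import Cfsg.Agent.KFacts.Co1D4.Main

/-!
# ODD half, D4: the sporadic rows with `Z(K) = 1` (helper228, integrator)
-/

set_option autoImplicit false

namespace Cfsg.Agent.OddHalf.D4.Final.Spor

open Subgroup Cfsg Cfsg.Agent.OddHalf.D4 Cfsg.Agent.OddHalf.D4.Spor

universe u

theorem noTriple : BabyHyp.NoTriple Cfsg.Agent.BabyM.Co2GenStd.l₀ :=
  LatFour.noTriple Cfsg.Agent.BabyM.GroupInst.dt_l₀

/-- the sheet of `Co₁` (a theorem: `opn`) -/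
structure Open : Prop where
  co1 : ∀ (X : Type u) [Group X], Cfsg.Spor.IsoCo1 X → Sheet X

/-- there is no open sheet -/
theorem opn : Open.{u} := ⟨fun _ _ h => sheet_of_model Cfsg.Agent.KFacts.Co1D4.Main.sheet h⟩

theorem sheets (o : Open.{u}) : Sheets.{u} where
  m11 _ _ h := M11.sheet h
  m22 _ _ h := M2223.sheet22 h
  m23 _ _ h := M2223.sheet23 h
  m24 _ _ h := MTwentyFour.exists_sheet h
  j1 _ _ h := J1.sheet_of_iso h
  j2 _ _ h := sheet_of_model JTwo.sheet h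
  j3 _ _ h := J3.sheet h
  j4 _ _ h := Cfsg.Agent.KFacts.J4.DFour.exists_sheet h
  co1 := o.co1
  co2 _ _ h := Cfsg.Agent.KFacts.Co2D4.sheetD4 h
  co3 _ _ h := Cfsg.Agent.KFacts.Co3D4.sheetD4 h
  hs _ _ h := HS.sheet h
  suz _ _ h := sheet_of_model Suz.sheet h
  he _ _ h := He.sheet_of_iso h
  ru _ _ h := Ru.sheet h
  on _ _ h := ON.sheet h
  fi22 _ _ h := Fi22.sheet h
  fi23 _ _ h := sheetG_of_model Fi23.sheetG h
  fi24 _ _ h := sheet_of_model Fi24.sheet h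
  hn _ _ h := sheet_of_model HN.sheet h
  th _ _ h := ThSheet.sheet_of_iso h
  b _ _ h := by
    obtain ⟨e⟩ := Cfsg.Agent.KFacts.Baby.RowB.exists_iso h
    exact Sheet.of_equiv e (Baby.sheet_model Cfsg.Agent.KFacts.CoTwo.InnerB.inner noTriple)
  m _ _ h := MonsterFinal.sheet h

/-- **The sporadic rows.** -/
theorem rowsSpor (g : Given.{u}) (o : Open.{u}) : Cut.RowsSpor.{u} :=
  Cfsg.Agent.OddHalf.D4.Spor.rowsSpor g.h1173 g.hFT Final.pse (sheets o)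

end Cfsg.Agent.OddHalf.D4.Final.Spor
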