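import Mathlib
import Cfsg.Agent.OddHalf.D4.SpN.Inst
import Cfsg.Agent.OddHalf.SpN.Inst
import Cfsg.Agent.KFacts.SysBFSp
import Cfsg.Agent.OddHalf.DblR.OneRow

/-!
# ODD half, D4: the row `Sp_2n(q)`, `n ≥ 3`, `q ≥ 4` even (helper228; all facts: helper550, 119)
-/

set_option autoImplicit false

namespace Cfsg.Agent.OddHalf.D4.Final.Sp

open Subgroup Cfsg Cfsg.Agent.OddHalf.D4 Cfsg.Agent.OddHalf.D4.StartQ Cfsg.Agent.OddHalf.D4.Cut
open Cfsg.Agent.OddHalf.SpN (Sy)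

universe u

theorem charP_two {F : Type} [Field F] [Fintype F] {a : ℕ} (hF : Fintype.card F = 2 ^ a) : CharP F 2 := by
  have h1 : ((Fintype.card F : ℕ) : F) = 0 := FiniteField.cast_card_eq_zero F
  rw [hF] at h1
  push_cast at h1
  exact CharTwo.of_one_ne_zero_of_two_eq_zero one_ne_zero (eq_zero_of_pow_eq_zero h1)

theorem four_le {F : Type} [Field F] [Fintype F] {a : ℕ} (ha : 2 ≤ a) (hF : Fintype.card F = 2 ^ a) :
    4 ≤ Nat.card F := by
  rw [Nat.card_eq_fintype_card, hF]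
  calc 4 = 2 ^ 2 := by norm_num
    _ ≤ 2 ^ a := Nat.pow_le_pow_right (by norm_num) ha

/-- **`Sp_2n(q)`, `n ≥ 3`, `q ≥ 4` even** -/
theorem spe (h1173 : Start.P1173.{u}) (hFT : FTT.{u}) : Cut.Row1.{u} (fun K _ => Spe K) := by
  refine row_of_free' h1173 hFT ?_ ?_ ?_
  · rintro X _ _ _ ⟨F, _, _, a, m, ha, hF, hm, ⟨e⟩⟩
    have := charP_two hF
    obtain ⟨i⟩ := Cfsg.Agent.OddHalf.SpN.Inst.equiv (n := m) (F := F) (by omega)
    exact DblR.OneRow.innSyl_congr (e.trans i).symm (Cfsg.Agent.OddHalf.D4.SpN.Inst.innSyl hm)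
  · rintro G _ hG K hK hD ⟨F, _, _, a, m, ha, hF, hm, ⟨e⟩⟩
    have := hG.fin
    have := charP_two hF
    obtain ⟨i⟩ := Cfsg.Agent.OddHalf.SpN.Inst.equiv (n := m) (F := F) (by omega)
    obtain ⟨f, hf, hr⟩ : ∃ f : Sy m F →* G, Function.Injective f ∧ f.range = K := by
      refine ⟨K.subtype.comp (e.trans i).symm.toMonoidHom, ?_, ?_⟩
      · exact K.subtype_injective.comp (e.trans i).symm.injective
      · rw [MonoidHom.range_comp]
        have h1 : (e.trans i).symm.toMonoidHom.range = ⊤ :=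
          MonoidHom.range_eq_top.2 (e.trans i).symm.surjective
        rw [h1, ← MonoidHom.range_eq_map, K.range_subtype]
    subst hr
    exact Cfsg.Agent.OddHalf.D4.SpN.Inst.inp hm (four_le ha hF) hf hD.tight hD.even hD.std hD.rk
  · rintro G _ hG K hK hD ⟨F, _, _, a, m, ha, hF, hm, ⟨e⟩⟩ g
    have := hG.fin
    have := charP_two hF
    have h4 := four_le ha hF
    exact Cfsg.Agent.KFacts.SysBFSp.bFacts_cj_PSp hm F (by omega) e g

end Cfsg.Agent.OddHalf.D4.Final.Sp
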