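import Mathlib
import Cfsg.Agent.OddHalf.D4.Final.Given
import Cfsg.Agent.OddHalf.D4.Un2.Row
import Cfsg.Agent.OddHalf.D4.Sp2.Row
import Cfsg.Agent.OddHalf.D4.SLTwo.Row
import Cfsg.Agent.OddHalf.D4.O2.Row
import Cfsg.Agent.OddHalf.D4.ThreeD4Two.Sheet
import Cfsg.Agent.OddHalf.D4.SpFourRow
import Cfsg.Agent.OddHalf.D4.Sz.Row
import Cfsg.Agent.OddHalf.D4.Sz.End
import Cfsg.Agent.OddHalf.D4.Rk2.Row
import Cfsg.Agent.OddHalf.D4.Spor.Tits
import Cfsg.Agent.OddHalf.D4.En2.Row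
import Cfsg.Agent.OddHalf.D4.TwF.Row
import Cfsg.Agent.OddHalf.DblR.UnRowFin
import Cfsg.Agent.OddHalf.D4.TwE.Row
import Cfsg.Agent.OddHalf.D4.L3.Row
import Cfsg.Agent.OddHalf.D4.RowsSL
import Cfsg.Agent.OddHalf.D4F4.Final
import Cfsg.Agent.OddHalf.DblR.HexG.Row
import Cfsg.Agent.OddHalf.DblR.OneRow
import Cfsg.Agent.OddHalf.D4.LinESix
import Cfsg.Agent.OddHalf.D4.MinusB.FactsInst
import Cfsg.Agent.OddHalf.D4.RowsSLK
import Cfsg.Agent.OddHalf.D4.U3.Row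
import Cfsg.Agent.OddHalf.D4.Final.Sp

/-!
# ODD half, D4: the rows of Lie type in characteristic 2 with `Z(K) = 1` (helper228, integrator)
-/

set_option autoImplicit false

namespace Cfsg.Agent.OddHalf.D4.Final.Two

open Subgroup Cfsg Cfsg.Agent.OddHalf.Iface Cfsg.Agent.OddHalf.D7.Cases Cfsg.Agent.OddHalf.D4 Cfsg.Agent.OddHalf.D4.Spor Cfsg.Agent.OddHalf.D4.Cut

universe u

/-- **`³D₄(2)`** -/
theorem d4t2 (h1173 : Start.P1173.{u}) (hFT : FTT.{u}) : Cut.Row1.{u} (fun K _ => D4t2 K) :=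
  row_of_sheet h1173 hFT Final.pse (by
    rintro X _ _ _ ⟨L, _, _, hL, ⟨e⟩⟩
    exact ThreeD4Two.sheet hL e)

/-- **`Sz(q)`, `q ≥ 32`** -/
theorem sze (g : Given.{u}) : Cut.Row1.{u} (fun K _ => Sze K) :=
  Sz.Row.sze g.h1173 g.h1170 g.h3p (fun _ _ _ _ M hG hcl => M.false hG hcl)

/-- **`²E₆(q)`, `q ≥ 4`** -/
theorem e6te (g : Given.{u}) : Cut.Row1.{u} (fun K _ => E6te K) :=
  DblR.OneRow.row_e6te g.h1173 g.hFT (by
    rintro F _ _ a ha hF G _ _ K ⟨e⟩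
    exact LinESix.bfacts ha hF e)

/-- **`Ω⁻_2m(q)`, `q ≥ 4`** -/
theorem ome (g : Given.{u}) : Cut.Row1.{u} (fun K _ => Ome K) :=
  DblR.OneRow.row_ome g.h1173 g.hFT (by
    rintro F _ _ a m b c ha hF hm hbc G _ _ K ⟨e⟩
    have h2 : (2 : F) = 0 := by
      have h1 : ((Fintype.card F : ℕ) : F) = 0 := FiniteField.cast_card_eq_zero F
      rw [hF] at h1
      push_cast at h1
      exact eq_zero_of_pow_eq_zero h1
    have hs : ∃ s : F, s ≠ 0 ∧ s ≠ 1 := by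
      classical
      have h1 : 2 < Fintype.card F := by
        rw [hF]
        calc 2 < 2 ^ 2 := by norm_num
          _ ≤ 2 ^ a := Nat.pow_le_pow_right (by norm_num) ha
      obtain ⟨s, hs⟩ := Finset.exists_mem_notMem_of_card_lt_card (s := ({0, 1} : Finset F)) (t := Finset.univ)
        (lt_of_le_of_lt Finset.card_le_two (by rw [Finset.card_univ]; exact h1))
      refine ⟨s, fun h0 => hs.2 (by rw [h0]; simp), fun h0 => hs.2 (by rw [h0]; simp)⟩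
    rw [← Cfsg.Agent.LieClassical.OrthForms.coe_minusForm] at e
    exact MinusB.bfacts_minus h2 hs hm b c hbc e)

/-- the row `Sp_2n(q)`, `n ≥ 3`, `q ≥ 4` (a theorem: `opn`) -/
structure Open : Prop where
  spe : Row1.{u} (fun K _ => Spe K)

/-- there is no open row -/
theorem opn (g : Given.{u}) : Open.{u} := ⟨Sp.spe g.h1173 g.hFT⟩

/-- **The rows of Lie type in characteristic 2.** -/
theorem rowsTwo (g : Given.{u}) (o : Open.{u}) : Cut.RowsTwo.{u} where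
  l2e := Rk2.row g.h1173 g.gold
  u3e := U3.Row.row g.h1173 g.gold g.hBen
  sze := sze g
  l3e := L3.row g.h1173
  sp4e := SpFourRow.row g.h1173
  g2e := DblR.HexG.g2e g.h1173 g.hFT
  u4e := DblR.UnRowFin.u4e g.h1173 g.hFT
  u5e := DblR.UnRowFin.u5e g.h1173 g.hFT
  u52 := Un2.u52 g.h1173 g.hFT Final.pse
  d4t2 := d4t2 g.h1173 g.hFT
  d4te := DblR.HexG.d4te g.h1173 g.hFT
  ln2 := SLTwo.row g.h1173
  lne := RowsSLK.lne g.h1173 g.hFT
  un2 := Un2.un2 g.h1173 g.hFT Final.pse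
  une := DblR.UnRowFin.une g.h1173 g.hFT
  sp2 := Sp2.Row.sp2 g.h1173
  spe := o.spe
  op2 := O2.row_op2 g.h1173
  ope := RowsSLK.ope g.h1173 g.hFT
  om2 := O2.row_om2 g.h1173
  ome := ome g
  f4e := Cfsg.Agent.OddHalf.D4F4.f4e g.h1173 g.hFT
  f4t := TwF.Row.row g.h1173
  e62 := En2.Row.row_e62 g.h1173
  e6e := RowsSLK.e6e g.h1173 g.hFT
  e72 := En2.Row.row_e72 g.h1173
  e7e := RowsSL.e7e g.h1173 g.hFT
  e82 := En2.Row.row_e82 g.h1173
  e8e := RowsSL.e8e g.h1173 g.hFT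
  e6t2 := TwE.Row.e6t2 g.h1173 g.hFT Final.pse
  e6te := e6te g
  tits := Spor.Tits.row g.h1173 g.hFT Final.pse

end Cfsg.Agent.OddHalf.D4.Final.Two
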