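import Mathlib
import Cfsg.Agent.OddHalf.D4.Final.Cov
import Cfsg.Agent.OddHalf.D4.Final.Spor
import Cfsg.Agent.OddHalf.D4.Final.Two
import Cfsg.Agent.OddHalf.D4.Final.Odd
import Cfsg.Agent.OddHalf.D4.Final.Mult

/-!
# ODD half, D4: the assembly (helper228, integrator)

`Given`: the listed statements used (all of them are proved: `Final.given`). The only input is `Odd.Open` (node NI).
-/

set_option autoImplicit false

namespace Cfsg.Agent.OddHalf.D4.Final

open Subgroup Cfsg Cfsg.Agent.OddHalf.D4 Cfsg.Agent.OddHalf.D4.Cut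

universe u

/-- the inputs (`Spor.opn`, `Two.opn`, `Mult.opn` are theorems) -/
structure Missing : Prop where
  spor : Spor.Open.{u}
  two : Two.Open.{u}
  odd : Odd.Open.{u}
  mult : Mult.Open.{u}

theorem rows (g : Given.{u}) (o : Missing.{u}) : Cut.Rows.{u} where
  two := Two.rowsTwo g o.two
  odd := Odd.rowsOdd g.h1173 o.odd
  spor := Spor.rowsSpor g o.spor
  cov := Cov.rowsCov g.hFT g.hTI

/-- **Node D4.** -/
theorem d4 (g : Given.{u}) (o : Missing.{u}) : Iface.D4.{u} :=
  d4_of_rows (Mult.mult o.mult) (Mult.multD4 o.mult) (rows g o)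

/-- **Node D4** from node NI. -/
theorem d4_of_odd (g : Given.{u}) (o : Odd.Open.{u}) : Iface.D4.{u} :=
  d4 g { spor := Spor.opn, two := Two.opn g, odd := o, mult := Mult.opn }

end Cfsg.Agent.OddHalf.D4.Final
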